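import Mathlib

/-!
# An Artin–Rees argument for square-zero-like extensions

Let `p : E → R` be a surjective ring map onto a Noetherian ring, `y : Fin d → E` a family such that
every element of `E` lying over the ideal `𝔞 = (p (y i))` kills the kernel of `p`.  Then some power
of the ideal `(y i)` of `E` meets the kernel of `p` only in `0`.
(Adapted from the argument used for S11282.)
-/

set_option autoImplicit false

namespace Groth.Agent.Helper6.ExalPS

theorem exists_pow_inf_ker_eq_bot {R E : Type*} [CommRing R] [IsNoetherianRing R] [CommRing E]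
    (p : E →+* R) (hps : Function.Surjective p) {d : ℕ} (y : Fin d → E)
    (hkill0 : ∀ e : E, p e ∈ Ideal.span (Set.range fun i => p (y i)) →
      ∀ w : E, p w = 0 → e * w = 0) :
    ∃ N : ℕ, ∀ w ∈ (Ideal.span (Set.range y)) ^ N, p w = 0 → w = 0 := by
  classical
  obtain ⟨x, hxdef⟩ : ∃ x : Fin d → R, x = fun i => p (y i) := ⟨_, rfl⟩
  have hy : ∀ i, p (y i) = x i := fun i => by rw [hxdef]
  rw [← hxdef] at hkill0
  have hkill : ∀ (e : E) (s : R), p e = s → s ∈ Ideal.span (Set.range x) →
      ∀ w : E, p w = 0 → e * w = 0 := fun e s he hs w hw => hkill0 e (he ▸ hs) w hw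
  have hxm : ∀ i, x i ∈ Ideal.span (Set.range x) := fun i => Ideal.subset_span ⟨i, rfl⟩
  obtain ⟨dd, hdd⟩ : ∃ dd : (Fin d → R) →ₗ[R] R, ∀ v, dd v = ∑ i, v i * x i :=
    ⟨Fintype.linearCombination R x, fun v => by
      rw [Fintype.linearCombination_apply]
      simp only [smul_eq_mul]⟩
  obtain ⟨c, hc⟩ := Ideal.exists_pow_inf_eq_pow_smul (Ideal.span (Set.range x))
    (LinearMap.ker dd)
  have pi_mem : ∀ (I : Ideal R) (v : Fin d → R), (∀ i, v i ∈ I) →
      v ∈ I • (⊤ : Submodule R (Fin d → R)) := by
    intro I v hv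
    rw [pi_eq_sum_univ v]
    exact Submodule.sum_mem _ fun i _ => Submodule.smul_mem_smul (hv i) Submodule.mem_top
  have claim : ∀ r ∈ (Ideal.span (Set.range x)) • LinearMap.ker dd, ∀ e : Fin d → E,
      (∀ i, p (e i) = r i) → ∑ i, e i * y i = 0 := by
    intro r hr
    refine Submodule.smul_induction_on hr ?_ ?_
    · intro s hs z hz e he
      obtain ⟨s', hs'⟩ := hps s
      choose z' hz' using fun i => hps (z i)
      have h1 : ∀ i, (e i - s' * z' i) * y i = 0 := by
        intro i
        rw [mul_comm]
        apply hkill (y i) (x i) (hy i) (hxm i)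
        rw [map_sub, map_mul, he, hs', hz', Pi.smul_apply, smul_eq_mul, sub_self]
      have h2 : p (∑ i, z' i * y i) = 0 := by
        rw [map_sum]
        simp only [map_mul, hz', hy]
        rw [← hdd]
        exact hz
      have h3 : s' * ∑ i, z' i * y i = 0 := hkill s' s hs' hs _ h2
      calc ∑ i, e i * y i = ∑ i, ((e i - s' * z' i) * y i + s' * (z' i * y i)) := by
            apply Finset.sum_congr rfl
            intro i _
            ring
        _ = 0 := by
            rw [Finset.sum_add_distrib, Finset.sum_congr rfl (fun i _ => h1 i),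
              Finset.sum_const_zero, zero_add, ← Finset.mul_sum, h3]
    · intro r₁ r₂ h₁ h₂ e he
      choose e₁ he₁ using fun i => hps (r₁ i)
      have h3 := h₁ e₁ he₁
      have h4 := h₂ (fun i => e i - e₁ i) (fun i => by
        rw [map_sub, he, he₁, Pi.add_apply, add_sub_cancel_left])
      calc ∑ i, e i * y i = ∑ i, e₁ i * y i + ∑ i, (e i - e₁ i) * y i := by
            rw [← Finset.sum_add_distrib]
            apply Finset.sum_congr rfl
            intro i _
            ring
        _ = 0 := by rw [h3, h4, add_zero]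
  have key : ∀ w ∈ Ideal.span (Set.range y) *
      Ideal.comap p ((Ideal.span (Set.range x)) ^ (c + 1)), p w = 0 → w = 0 := by
    intro w hw hw0
    rw [mul_comm] at hw
    have hw' : w ∈ (Ideal.comap p ((Ideal.span (Set.range x)) ^ (c + 1))) •
        Submodule.span E (Set.range y) := hw
    obtain ⟨a, ha, hsum⟩ := (Submodule.mem_ideal_smul_span_iff_exists_sum _ y w).mp hw'
    rw [Finsupp.sum_fintype a (fun i c => c • y i) (fun i => zero_smul _ _)] at hsum
    obtain ⟨r, hr⟩ : ∃ r : Fin d → R, ∀ i, r i = p (a i) := ⟨fun i => p (a i), fun _ => rfl⟩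
    have hrZ : r ∈ LinearMap.ker dd := by
      rw [LinearMap.mem_ker, hdd, ← hw0, ← hsum, map_sum]
      apply Finset.sum_congr rfl
      intro i _
      rw [smul_eq_mul, map_mul, hr, hy]
    have hrm : r ∈ ((Ideal.span (Set.range x)) ^ (c + 1)) • (⊤ : Submodule R (Fin d → R)) := by
      apply pi_mem
      intro i
      rw [hr]
      exact ha i
    have hr2 : r ∈ ((Ideal.span (Set.range x)) ^ (c + 1)) • (⊤ : Submodule R (Fin d → R)) ⊓
        LinearMap.ker dd := ⟨hrm, hrZ⟩
    rw [hc (c + 1) (Nat.le_succ c)] at hr2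
    have hone : c + 1 - c = 1 := by omega
    rw [hone, pow_one] at hr2
    have hr3 : r ∈ (Ideal.span (Set.range x)) • LinearMap.ker dd :=
      Submodule.smul_mono le_rfl inf_le_right hr2
    have h5 := claim r hr3 (fun i => a i) (fun i => (hr i).symm)
    rw [← hsum]
    simp only [smul_eq_mul]
    exact h5
  refine ⟨c + 2, fun w hw hw0 => key w ?_ hw0⟩
  have hle : (Ideal.span (Set.range y)) ^ (c + 1) ≤
      Ideal.comap p ((Ideal.span (Set.range x)) ^ (c + 1)) := by
    rw [← Ideal.map_le_iff_le_comap, Ideal.map_pow, Ideal.map_span, ← Set.range_comp]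
    have hpy : (p ∘ y) = x := funext hy
    rw [hpy]
  have hw2 : w ∈ Ideal.span (Set.range y) * (Ideal.span (Set.range y)) ^ (c + 1) := by
    rw [← pow_succ']
    exact hw
  exact Ideal.mul_mono_right hle hw2

end Groth.Agent.Helper6.ExalPS
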