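import Mathlib

/-!
# Power series minus their truncation lie in a power of the ideal of variables
-/

set_option autoImplicit false

namespace Groth.Agent.Helper6.ExalPS

open MvPowerSeries

theorem sub_truncTotal_mem {Λ : Type*} [CommRing Λ] (d N : ℕ) (q : MvPowerSeries (Fin d) Λ) :
    q - ((truncTotal N q : MvPolynomial (Fin d) Λ) : MvPowerSeries (Fin d) Λ) ∈
      (Ideal.span (Set.range (MvPowerSeries.X : Fin d → MvPowerSeries (Fin d) Λ))) ^ N := by
  classical
  obtain ⟨q', hq'⟩ : ∃ q' : MvPowerSeries (Fin d) Λ,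
      q' = q - ((truncTotal N q : MvPolynomial (Fin d) Λ) : MvPowerSeries (Fin d) Λ) := ⟨_, rfl⟩
  rw [← hq']
  have h0 : truncTotal N q' = 0 := by
    ext x
    by_cases hx : Finsupp.degree x < N
    · rw [coeff_truncTotal _ hx, hq', map_sub, MvPolynomial.coeff_coe, coeff_truncTotal _ hx,
        sub_self, MvPolynomial.coeff_zero]
    · rw [coeff_truncTotal_eq_zero _ (not_lt.mp hx), MvPolynomial.coeff_zero]
  have h1 : toAdicCompletionAlgEquiv (Fin d) Λ q' ∈
      LinearMap.ker (AdicCompletion.eval (MvPolynomial.idealOfVars (Fin d) Λ)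
        (MvPolynomial (Fin d) Λ) N) := by
    rw [LinearMap.mem_ker, AdicCompletion.eval_apply, toAdicCompletionAlgEquiv_apply,
      toAdicCompletion_apply_eq_mk_truncTotal, h0, map_zero]
  rw [← AdicCompletion.pow_smul_top_eq_ker_eval (MvPolynomial.idealOfVars_fg _ _)] at h1
  have h2 : q' ∈ ((MvPolynomial.idealOfVars (Fin d) Λ) ^ N •
      (⊤ : Submodule (MvPolynomial (Fin d) Λ) (MvPowerSeries (Fin d) Λ))) := by
    have h3 := Submodule.mem_map_of_mem
      (f := (toAdicCompletionAlgEquiv (Fin d) Λ).symm.toLinearMap) h1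
    rw [Submodule.map_smul''] at h3
    have h4 : (toAdicCompletionAlgEquiv (Fin d) Λ).symm.toLinearMap
        (toAdicCompletionAlgEquiv (Fin d) Λ q') = q' := by
      rw [AlgEquiv.toLinearMap_apply, AlgEquiv.symm_apply_apply]
    rw [h4] at h3
    exact Submodule.smul_mono le_rfl le_top h3
  have h5 : ((MvPolynomial.idealOfVars (Fin d) Λ) ^ N •
      (⊤ : Submodule (MvPolynomial (Fin d) Λ) (MvPowerSeries (Fin d) Λ))) ≤
      ((Ideal.span (Set.range (MvPowerSeries.X : Fin d → MvPowerSeries (Fin d) Λ))) ^ N).restrictScalars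
        (MvPolynomial (Fin d) Λ) := by
    rw [Submodule.smul_le]
    intro a ha m _
    rw [Submodule.restrictScalars_mem, Algebra.smul_def]
    apply Ideal.mul_mem_right
    have h6 : algebraMap (MvPolynomial (Fin d) Λ) (MvPowerSeries (Fin d) Λ) a ∈
        Ideal.map (algebraMap (MvPolynomial (Fin d) Λ) (MvPowerSeries (Fin d) Λ))
          ((MvPolynomial.idealOfVars (Fin d) Λ) ^ N) := Ideal.mem_map_of_mem _ ha
    rw [Ideal.map_pow, show MvPolynomial.idealOfVars (Fin d) Λ =
      Ideal.span (Set.range MvPolynomial.X) from rfl, Ideal.map_span, ← Set.range_comp] at h6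
    have h7 : (algebraMap (MvPolynomial (Fin d) Λ) (MvPowerSeries (Fin d) Λ)) ∘ MvPolynomial.X =
        (MvPowerSeries.X : Fin d → MvPowerSeries (Fin d) Λ) := by
      funext i
      simp [MvPowerSeries.algebraMap_apply']
    rw [h7] at h6
    exact h6
  exact h5 h2

end Groth.Agent.Helper6.ExalPS
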