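import Mathlib
import Groth.Prelude.Def_Exal2
import Groth.Agent.Lib.Helper6.ExalPS.Krull
import Groth.Agent.Lib.Helper6.ExalPS.Trunc

/-!
# Lifting the quotient map of a power series ring to an extension by a simple module
-/

set_option autoImplicit false
universe u

namespace Groth.Agent.Helper6.ExalPS

open MvPowerSeries

section
variable {Λ : Type u} [CommRing Λ] {d : ℕ} (J : Ideal (MvPowerSeries (Fin d) Λ))
  {L : Type u} [AddCommGroup L] [Module (MvPowerSeries (Fin d) Λ ⧸ J) L]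
  [Module (MvPowerSeries (Fin d) Λ) L]
  [IsScalarTower (MvPowerSeries (Fin d) Λ) (MvPowerSeries (Fin d) Λ ⧸ J) L]

theorem mk_smul (q : MvPowerSeries (Fin d) Λ) (w : L) :
    (Ideal.Quotient.mk J q) • w = q • w := by
  rw [← Ideal.Quotient.algebraMap_eq, algebraMap_smul]

variable {J}

theorem proj_incl (X : Exal.Ext Λ (MvPowerSeries (Fin d) Λ ⧸ J) L) (z : L) :
    X.proj (X.incl z) = 0 :=
  (X.isExtension.exact _).mpr ⟨z, rfl⟩

theorem mul_incl' (X : Exal.Ext Λ (MvPowerSeries (Fin d) Λ ⧸ J) L)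
    (u : MvPowerSeries (Fin d) Λ →ₐ[Λ] X.E)
    (hu : ∀ q, X.proj (u q) = Ideal.Quotient.mk J q) (q : MvPowerSeries (Fin d) Λ) (z : L) :
    u q * X.incl z = X.incl (q • z) := by
  rw [X.isExtension.mul_incl, hu, mk_smul]

theorem incl_mul_incl (X : Exal.Ext Λ (MvPowerSeries (Fin d) Λ ⧸ J) L) (z z' : L) :
    X.incl z * X.incl z' = 0 := by
  have h : X.proj (X.incl z) • z' = 0 := by
    rw [proj_incl]
    exact zero_smul (MvPowerSeries (Fin d) Λ ⧸ J) z'
  rw [X.isExtension.mul_incl, h, map_zero]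

variable (J)
variable [IsSimpleModule (MvPowerSeries (Fin d) Λ ⧸ J) L]

include J in
theorem X_smul_eq_zero (i : Fin d) (z : L) :
    (MvPowerSeries.X i : MvPowerSeries (Fin d) Λ) • z = 0 := by
  by_contra hne
  obtain ⟨r, hr⟩ := IsSimpleModule.toSpanSingleton_surjective
    (MvPowerSeries (Fin d) Λ ⧸ J) hne z
  rw [LinearMap.toSpanSingleton_apply] at hr
  obtain ⟨r', rfl⟩ := Ideal.Quotient.mk_surjective r
  rw [mk_smul] at hr
  have h1 : (1 - r' * MvPowerSeries.X i : MvPowerSeries (Fin d) Λ) • z = 0 := by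
    rw [sub_smul, one_smul, mul_smul, hr, sub_self]
  have hu : IsUnit (1 - r' * MvPowerSeries.X i : MvPowerSeries (Fin d) Λ) := by
    rw [MvPowerSeries.isUnit_iff_constantCoeff]
    simp
  obtain ⟨v, hv⟩ := hu.exists_left_inv
  have hz : z = 0 := by
    calc z = (v * (1 - r' * MvPowerSeries.X i)) • z := by rw [hv, one_smul]
      _ = v • ((1 - r' * MvPowerSeries.X i) • z) := mul_smul _ _ _
      _ = 0 := by rw [h1, smul_zero]
  exact hne (by rw [hz, smul_zero])

include J in
theorem smul_eq_zero_of_mem_span {a : MvPowerSeries (Fin d) Λ}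
    (ha : a ∈ Ideal.span (Set.range (MvPowerSeries.X : Fin d → MvPowerSeries (Fin d) Λ)))
    (z : L) : a • z = 0 := by
  induction ha using Submodule.span_induction with
  | mem x hx =>
    obtain ⟨i, rfl⟩ := hx
    exact X_smul_eq_zero J i z
  | zero => exact zero_smul _ _
  | add x y _ _ hx hy => rw [add_smul, hx, hy, add_zero]
  | smul c x _ hx => rw [smul_eq_mul, mul_smul, hx, smul_zero]

theorem exists_lift [IsNoetherianRing Λ] (X : Exal.Ext Λ (MvPowerSeries (Fin d) Λ ⧸ J) L) :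
    ∃ u : MvPowerSeries (Fin d) Λ →ₐ[Λ] X.E, ∀ q, X.proj (u q) = Ideal.Quotient.mk J q := by
  classical
  have hE := X.isExtension
  choose y hy using fun i : Fin d =>
    hE.proj_surjective (Ideal.Quotient.mk J (MvPowerSeries.X i))
  obtain ⟨ev, hevdef⟩ : ∃ ev : MvPolynomial (Fin d) Λ →ₐ[Λ] X.E, ev = MvPolynomial.aeval y :=
    ⟨_, rfl⟩
  have hevX : ∀ i, ev (MvPolynomial.X i) = y i := fun i => by
    rw [hevdef, MvPolynomial.aeval_X]
  have hcoe : ∀ t : MvPolynomial (Fin d) Λ,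
      MvPolynomial.coeToMvPowerSeries.algHom Λ t = (t : MvPowerSeries (Fin d) Λ) := by
    intro t
    rw [MvPolynomial.coeToMvPowerSeries.algHom_apply]
    ext n
    simp
  have hev : ∀ t : MvPolynomial (Fin d) Λ,
      X.proj (ev t) = Ideal.Quotient.mk J (t : MvPowerSeries (Fin d) Λ) := by
    intro t
    have h1 : X.proj.comp ev =
        (Ideal.Quotient.mkₐ Λ J).comp (MvPolynomial.coeToMvPowerSeries.algHom Λ) := by
      apply MvPolynomial.algHom_ext
      intro i
      rw [AlgHom.comp_apply, AlgHom.comp_apply, hevX, hy, hcoe, MvPolynomial.coe_X,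
        Ideal.Quotient.mkₐ_eq_mk]
    have h2 := DFunLike.congr_fun h1 t
    rw [AlgHom.comp_apply, AlgHom.comp_apply, hcoe, Ideal.Quotient.mkₐ_eq_mk] at h2
    exact h2
  have hkill : ∀ e : X.E, X.proj.toRingHom e ∈
      Ideal.span (Set.range fun i => X.proj.toRingHom (y i)) →
      ∀ w : X.E, X.proj.toRingHom w = 0 → e * w = 0 := by
    intro e he w hw
    change X.proj w = 0 at hw
    obtain ⟨z, rfl⟩ := (hE.exact w).mp hw
    rw [hE.mul_incl]
    have h1 : (fun i => X.proj.toRingHom (y i)) =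
        (Ideal.Quotient.mk J) ∘ (MvPowerSeries.X : Fin d → MvPowerSeries (Fin d) Λ) :=
      funext hy
    rw [h1, Set.range_comp, ← Ideal.map_span] at he
    obtain ⟨a, ha, hae⟩ := (Ideal.mem_map_iff_of_surjective _
      Ideal.Quotient.mk_surjective).mp he
    have h2 : X.proj e = Ideal.Quotient.mk J a := hae.symm
    rw [h2, mk_smul, smul_eq_zero_of_mem_span J ha, map_zero]
  obtain ⟨N, hN⟩ := exists_pow_inf_ker_eq_bot X.proj.toRingHom hE.proj_surjective y hkill
  obtain ⟨IM, hIM⟩ : ∃ IM : Ideal X.E, IM = (Ideal.span (Set.range y)) ^ (N + 1) := ⟨_, rfl⟩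
  have hN' : ∀ w ∈ IM, X.proj w = 0 → w = 0 := by
    intro w hw hw0
    rw [hIM] at hw
    exact hN w (Ideal.pow_le_pow_right (Nat.le_succ N) hw) hw0
  have hF1 : ∀ a ∈ (MvPolynomial.idealOfVars (Fin d) Λ) ^ (N + 1), ev a ∈ IM := by
    intro a ha
    have h1 : ev a ∈ Ideal.map ev ((MvPolynomial.idealOfVars (Fin d) Λ) ^ (N + 1)) :=
      Ideal.mem_map_of_mem _ ha
    rw [Ideal.map_pow, show MvPolynomial.idealOfVars (Fin d) Λ =
      Ideal.span (Set.range MvPolynomial.X) from rfl, Ideal.map_span, ← Set.range_comp] at h1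
    have h2 : (ev ∘ MvPolynomial.X) = y := funext hevX
    rw [h2] at h1
    rw [hIM]
    exact h1
  have hmapI : Ideal.map X.proj IM = Ideal.map (Ideal.Quotient.mk J)
      ((Ideal.span (Set.range (MvPowerSeries.X : Fin d → MvPowerSeries (Fin d) Λ))) ^ (N + 1)) := by
    rw [hIM, Ideal.map_pow, Ideal.map_pow, Ideal.map_span, Ideal.map_span, ← Set.range_comp,
      ← Set.range_comp]
    have h1 : (X.proj ∘ y) =
        (Ideal.Quotient.mk J) ∘ (MvPowerSeries.X : Fin d → MvPowerSeries (Fin d) Λ) :=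
      funext hy
    rw [h1]
  have hF2 : ∀ q : MvPowerSeries (Fin d) Λ, ∃ c ∈ IM, X.proj c = Ideal.Quotient.mk J
      (q - ((truncTotal (N + 1) q : MvPolynomial (Fin d) Λ) : MvPowerSeries (Fin d) Λ)) := by
    intro q
    have h1 : Ideal.Quotient.mk J
        (q - ((truncTotal (N + 1) q : MvPolynomial (Fin d) Λ) : MvPowerSeries (Fin d) Λ)) ∈
        Ideal.map X.proj IM := by
      rw [hmapI]
      exact Ideal.mem_map_of_mem _ (sub_truncTotal_mem d (N + 1) q)
    exact (Ideal.mem_map_iff_of_surjective X.proj hE.proj_surjective).mp h1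
  have hex : ∀ q : MvPowerSeries (Fin d) Λ, ∃ e : X.E, X.proj e = Ideal.Quotient.mk J q ∧
      e - ev (truncTotal (N + 1) q) ∈ IM := by
    intro q
    obtain ⟨c, hc, hpc⟩ := hF2 q
    refine ⟨ev (truncTotal (N + 1) q) + c, ?_, ?_⟩
    · rw [map_add, hev, hpc, map_sub]
      ring
    · rw [add_sub_cancel_left]
      exact hc
  have huniq : ∀ (q : MvPowerSeries (Fin d) Λ) (e e' : X.E),
      (X.proj e = Ideal.Quotient.mk J q ∧ e - ev (truncTotal (N + 1) q) ∈ IM) →
      (X.proj e' = Ideal.Quotient.mk J q ∧ e' - ev (truncTotal (N + 1) q) ∈ IM) → e = e' := by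
    intro q e e' h h'
    have h1 : e - e' ∈ IM := by
      have h3 := IM.sub_mem h.2 h'.2
      rwa [sub_sub_sub_cancel_right] at h3
    have h2 : X.proj (e - e') = 0 := by rw [map_sub, h.1, h'.1, sub_self]
    exact sub_eq_zero.mp (hN' _ h1 h2)
  choose u₀ hu₀ using hex
  have hM : N + 1 ≠ 0 := Nat.succ_ne_zero N
  refine ⟨{ toFun := u₀, map_one' := ?_, map_mul' := ?_, map_zero' := ?_, map_add' := ?_,
            commutes' := ?_ }, fun q => (hu₀ q).1⟩
  · refine huniq 1 _ _ (hu₀ 1) ⟨by rw [map_one, map_one], ?_⟩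
    rw [truncTotal_one hM, map_one, sub_self]
    exact IM.zero_mem
  · intro q q'
    refine huniq (q * q') _ _ (hu₀ (q * q'))
      ⟨by rw [map_mul, (hu₀ q).1, (hu₀ q').1, map_mul], ?_⟩
    have h1 := (hu₀ q).2
    have h2 := (hu₀ q').2
    have h3 : ev (truncTotal (N + 1) (q * q') -
        truncTotal (N + 1) q * truncTotal (N + 1) q') ∈ IM :=
      hF1 _ (truncTotal_mul_sub_mul_truncTotal_mem_pow_idealOfVars q q')
    have h4 : u₀ q * u₀ q' - ev (truncTotal (N + 1) (q * q')) =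
        (u₀ q - ev (truncTotal (N + 1) q)) * u₀ q' +
          ev (truncTotal (N + 1) q) * (u₀ q' - ev (truncTotal (N + 1) q')) -
          ev (truncTotal (N + 1) (q * q') -
            truncTotal (N + 1) q * truncTotal (N + 1) q') := by
      rw [map_sub ev, map_mul ev]
      ring
    rw [h4]
    exact IM.sub_mem (IM.add_mem (IM.mul_mem_right _ h1) (IM.mul_mem_left _ h2)) h3
  · refine huniq 0 _ _ (hu₀ 0) ⟨by rw [map_zero, map_zero], ?_⟩
    rw [map_zero, map_zero, sub_self]
    exact IM.zero_mem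
  · intro q q'
    refine huniq (q + q') _ _ (hu₀ (q + q'))
      ⟨by rw [map_add, (hu₀ q).1, (hu₀ q').1, map_add], ?_⟩
    have h4 : u₀ q + u₀ q' - ev (truncTotal (N + 1) (q + q')) =
        (u₀ q - ev (truncTotal (N + 1) q)) + (u₀ q' - ev (truncTotal (N + 1) q')) := by
      rw [map_add, map_add]
      ring
    rw [h4]
    exact IM.add_mem (hu₀ q).2 (hu₀ q').2
  · intro a
    refine huniq _ _ _ (hu₀ _) ⟨?_, ?_⟩
    · rw [AlgHom.commutes, Ideal.Quotient.mk_algebraMap]
    · have h1 : algebraMap Λ (MvPowerSeries (Fin d) Λ) a =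
          ((MvPolynomial.C a : MvPolynomial (Fin d) Λ) : MvPowerSeries (Fin d) Λ) := by
        simp [MvPowerSeries.algebraMap_apply]
      rw [h1, (truncTotal_coe_eq_self_iff _ hM).mpr
        (by rw [MvPolynomial.totalDegree_C]; exact Nat.succ_pos N), hevdef,
        MvPolynomial.aeval_C, sub_self]
      exact IM.zero_mem

end

end Groth.Agent.Helper6.ExalPS
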