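import Mathlib
import Groth.Prelude.Def_Exal2
import Groth.Agent.Lib.Helper6.ExalPS.Lift

/-!
# Every linear map `J → L` is the restriction of a lift for some extension
-/

set_option autoImplicit false
universe u

namespace Groth.Agent.Helper6.ExalPS

open MvPowerSeries

attribute [local instance] Exal.opModule Exal.isCentralScalar_opModule

section
variable {Λ : Type u} [CommRing Λ] {d : ℕ} {J : Ideal (MvPowerSeries (Fin d) Λ)}
  {L : Type u} [AddCommGroup L] [Module (MvPowerSeries (Fin d) Λ ⧸ J) L]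
  [Module (MvPowerSeries (Fin d) Λ) L]
  [IsScalarTower (MvPowerSeries (Fin d) Λ) (MvPowerSeries (Fin d) Λ ⧸ J) L]

/-- The zero map comes from the trivial extension. -/
theorem exists_ext_zero :
    ∃ (X : Exal.Ext Λ (MvPowerSeries (Fin d) Λ ⧸ J) L)
      (u : MvPowerSeries (Fin d) Λ →ₐ[Λ] X.E),
      (∀ q, X.proj (u q) = Ideal.Quotient.mk J q) ∧
        ∀ j : J, X.incl ((0 : J →ₗ[MvPowerSeries (Fin d) Λ] L) j) = u j := by
  let s : (MvPowerSeries (Fin d) Λ ⧸ J) →ₐ[Λ]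
      (Exal.Ext.trivial Λ (MvPowerSeries (Fin d) Λ ⧸ J) L).E :=
    { (TrivSqZeroExt.inlHom (MvPowerSeries (Fin d) Λ ⧸ J) L :
        (MvPowerSeries (Fin d) Λ ⧸ J) →+*
          Exal.Ext.TrivCarrier Λ (MvPowerSeries (Fin d) Λ ⧸ J) L) with
      commutes' := fun _ => rfl }
  refine ⟨Exal.Ext.trivial Λ (MvPowerSeries (Fin d) Λ ⧸ J) L,
    s.comp (Ideal.Quotient.mkₐ Λ J), fun q => rfl, fun j => ?_⟩
  rw [LinearMap.zero_apply, map_zero, AlgHom.comp_apply, Ideal.Quotient.mkₐ_eq_mk,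
    Ideal.Quotient.eq_zero_iff_mem.mpr j.2, map_zero]

variable [IsSimpleModule (MvPowerSeries (Fin d) Λ ⧸ J) L]

theorem exists_ext_of_hom (δ : J →ₗ[MvPowerSeries (Fin d) Λ] L) :
    ∃ (X : Exal.Ext Λ (MvPowerSeries (Fin d) Λ ⧸ J) L)
      (u : MvPowerSeries (Fin d) Λ →ₐ[Λ] X.E),
      (∀ q, X.proj (u q) = Ideal.Quotient.mk J q) ∧ ∀ j : J, X.incl (δ j) = u j := by
  classical
  by_cases hδ : δ = 0
  · subst hδ
    exact exists_ext_zero
  have hsurj : Function.Surjective δ := by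
    obtain ⟨j₀, hj₀⟩ : ∃ j₀, δ j₀ ≠ 0 := by
      by_contra h
      push_neg at h
      exact hδ (LinearMap.ext h)
    intro z
    obtain ⟨r, hr⟩ := IsSimpleModule.toSpanSingleton_surjective
      (MvPowerSeries (Fin d) Λ ⧸ J) hj₀ z
    rw [LinearMap.toSpanSingleton_apply] at hr
    obtain ⟨q, rfl⟩ := Ideal.Quotient.mk_surjective r
    rw [mk_smul] at hr
    exact ⟨q • j₀, by rw [map_smul, hr]⟩
  obtain ⟨J₀, hJ₀⟩ : ∃ J₀ : Ideal (MvPowerSeries (Fin d) Λ),
      J₀ = Submodule.map (Submodule.subtype J) (LinearMap.ker δ) := ⟨_, rfl⟩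
  have hmem : ∀ q : MvPowerSeries (Fin d) Λ, q ∈ J₀ ↔ ∃ h : q ∈ J, δ ⟨q, h⟩ = 0 := by
    intro q
    rw [hJ₀, Submodule.mem_map]
    constructor
    · rintro ⟨j, hj, rfl⟩
      exact ⟨j.2, LinearMap.mem_ker.mp hj⟩
    · rintro ⟨h, h0⟩
      exact ⟨⟨q, h⟩, LinearMap.mem_ker.mpr h0, rfl⟩
  have hle : J₀ ≤ J := fun q hq => ((hmem q).mp hq).1
  choose jf hjf using hsurj
  have hwd : ∀ (j j' : J), δ j = δ j' →
      Ideal.Quotient.mk J₀ (j : MvPowerSeries (Fin d) Λ) =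
        Ideal.Quotient.mk J₀ (j' : MvPowerSeries (Fin d) Λ) := by
    intro j j' h
    rw [Ideal.Quotient.eq, hmem]
    refine ⟨J.sub_mem j.2 j'.2, ?_⟩
    have h1 : (⟨(j : MvPowerSeries (Fin d) Λ) - j', J.sub_mem j.2 j'.2⟩ : J) = j - j' := rfl
    rw [h1, map_sub, h, sub_self]
  have hincl : ∀ j : J, Ideal.Quotient.mk J₀ ((jf (δ j) : J) : MvPowerSeries (Fin d) Λ) =
      Ideal.Quotient.mk J₀ (j : MvPowerSeries (Fin d) Λ) := fun j => hwd _ _ (hjf (δ j))
  obtain ⟨incl, hincl_def⟩ : ∃ incl : L →+ (MvPowerSeries (Fin d) Λ ⧸ J₀),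
      ∀ z, incl z = Ideal.Quotient.mk J₀ ((jf z : J) : MvPowerSeries (Fin d) Λ) := by
    refine ⟨{ toFun := fun z => Ideal.Quotient.mk J₀ ((jf z : J) : MvPowerSeries (Fin d) Λ)
              map_zero' := ?_
              map_add' := ?_ }, fun z => rfl⟩
    · have h1 := hwd (jf 0) 0 (by rw [hjf, map_zero])
      rw [h1]
      simp
    · intro z z'
      have h1 := hwd (jf (z + z')) (jf z + jf z') (by rw [hjf, map_add, hjf, hjf])
      rw [h1]
      simp
  have hext : Exal.IsExtension (Ideal.Quotient.factorₐ Λ hle) incl := by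
    refine ⟨?_, ?_, ?_, ?_⟩
    · intro x
      obtain ⟨q, rfl⟩ := Ideal.Quotient.mk_surjective x
      exact ⟨Ideal.Quotient.mk J₀ q, by
        rw [Ideal.Quotient.factorₐ_apply, Ideal.Quotient.factor_mk]⟩
    · intro z z' h
      rw [hincl_def, hincl_def] at h
      have h1 := Ideal.Quotient.eq.mp h
      obtain ⟨hm, h0⟩ := (hmem _).mp h1
      have h2 : (⟨((jf z : J) : MvPowerSeries (Fin d) Λ) - (jf z' : J), hm⟩ : J) =
          jf z - jf z' := rfl
      rw [h2, map_sub, hjf, hjf] at h0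
      exact sub_eq_zero.mp h0
    · intro x
      obtain ⟨q, rfl⟩ := Ideal.Quotient.mk_surjective x
      rw [Ideal.Quotient.factorₐ_apply, Ideal.Quotient.factor_mk, Ideal.Quotient.eq_zero_iff_mem]
      constructor
      · intro hq
        exact ⟨δ ⟨q, hq⟩, by rw [hincl_def]; exact hincl ⟨q, hq⟩⟩
      · rintro ⟨z, hz⟩
        rw [hincl_def] at hz
        have h1 : Ideal.Quotient.mk J q = Ideal.Quotient.mk J ((jf z : J) : MvPowerSeries (Fin d) Λ) := by
          have h2 := congrArg (Ideal.Quotient.factor hle) hz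
          rw [Ideal.Quotient.factor_mk, Ideal.Quotient.factor_mk] at h2
          exact h2.symm
        have h3 : Ideal.Quotient.mk J ((jf z : J) : MvPowerSeries (Fin d) Λ) = 0 :=
          Ideal.Quotient.eq_zero_iff_mem.mpr (jf z).2
        exact Ideal.Quotient.eq_zero_iff_mem.mp (h1.trans h3)
    · intro x z
      obtain ⟨q, rfl⟩ := Ideal.Quotient.mk_surjective x
      rw [Ideal.Quotient.factorₐ_apply, Ideal.Quotient.factor_mk, mk_smul, hincl_def, hincl_def,
        ← map_mul]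
      have h1 := hwd (q • jf z) (jf (q • z)) (by rw [map_smul, hjf, hjf])
      rw [← h1]
      rfl
  refine ⟨⟨MvPowerSeries (Fin d) Λ ⧸ J₀, Ideal.Quotient.factorₐ Λ hle, incl, hext⟩,
    Ideal.Quotient.mkₐ Λ J₀, ?_, ?_⟩
  · intro q
    change Ideal.Quotient.factorₐ Λ hle (Ideal.Quotient.mk J₀ q) = _
    rw [Ideal.Quotient.factorₐ_apply, Ideal.Quotient.factor_mk]
  · intro j
    change incl (δ j) = Ideal.Quotient.mk J₀ (j : MvPowerSeries (Fin d) Λ)
    rw [hincl_def]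
    exact hincl j

end

end Groth.Agent.Helper6.ExalPS
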