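import Mathlib
import Groth.Prelude.Def_Exal2
import Groth.Agent.Lib.Helper6.ExalPS.Lift

/-!
# Extensions of a quotient of a power series ring by a simple module are classified by the
restriction of a lift to the defining ideal
-/

set_option autoImplicit false
universe u

namespace Groth.Agent.Helper6.ExalPS

open MvPowerSeries

section
variable {Λ : Type u} [CommRing Λ] {d : ℕ} {J : Ideal (MvPowerSeries (Fin d) Λ)}
  {L : Type u} [AddCommGroup L] [Module (MvPowerSeries (Fin d) Λ ⧸ J) L]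
  [Module (MvPowerSeries (Fin d) Λ) L]
  [IsScalarTower (MvPowerSeries (Fin d) Λ) (MvPowerSeries (Fin d) Λ ⧸ J) L]

theorem mul_decomp (X : Exal.Ext Λ (MvPowerSeries (Fin d) Λ ⧸ J) L)
    (u : MvPowerSeries (Fin d) Λ →ₐ[Λ] X.E)
    (hu : ∀ q, X.proj (u q) = Ideal.Quotient.mk J q)
    (q₁ q₂ : MvPowerSeries (Fin d) Λ) (z₁ z₂ : L) :
    (u q₁ + X.incl z₁) * (u q₂ + X.incl z₂) =
      u (q₁ * q₂) + X.incl (q₁ • z₂ + q₂ • z₁) := by
  have h1 : u q₁ * X.incl z₂ = X.incl (q₁ • z₂) := mul_incl' X u hu q₁ z₂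
  have h2 : X.incl z₁ * u q₂ = X.incl (q₂ • z₁) := by
    rw [mul_comm]
    exact mul_incl' X u hu q₂ z₁
  have h3 : X.incl z₁ * X.incl z₂ = 0 := incl_mul_incl X z₁ z₂
  rw [add_mul, mul_add, mul_add, h1, h2, h3, map_mul, map_add]
  abel

theorem exists_decomp (X : Exal.Ext Λ (MvPowerSeries (Fin d) Λ ⧸ J) L)
    (u : MvPowerSeries (Fin d) Λ →ₐ[Λ] X.E)
    (hu : ∀ q, X.proj (u q) = Ideal.Quotient.mk J q) (y : X.E) :
    ∃ (q : MvPowerSeries (Fin d) Λ) (z : L), y = u q + X.incl z := by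
  obtain ⟨q, hq⟩ := Ideal.Quotient.mk_surjective (X.proj y)
  have h0 : X.proj (y - u q) = 0 := by rw [map_sub, hu, hq, sub_self]
  obtain ⟨z, hz⟩ := (X.isExtension.exact _).mp h0
  exact ⟨q, z, by rw [hz]; ring⟩

theorem exists_hom (X X' : Exal.Ext Λ (MvPowerSeries (Fin d) Λ ⧸ J) L)
    (u : MvPowerSeries (Fin d) Λ →ₐ[Λ] X.E) (u' : MvPowerSeries (Fin d) Λ →ₐ[Λ] X'.E)
    (hu : ∀ q, X.proj (u q) = Ideal.Quotient.mk J q)
    (hu' : ∀ q, X'.proj (u' q) = Ideal.Quotient.mk J q)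
    (H : ∀ j ∈ J, ∀ z : L, X.incl z = u j → X'.incl z = u' j) :
    ∃ φ : X.E →ₐ[Λ] X'.E, ∀ q z, φ (u q + X.incl z) = u' q + X'.incl z := by
  classical
  have hdec := exists_decomp X u hu
  have hfun : ∀ (q q₂ : MvPowerSeries (Fin d) Λ) (z z₂ : L),
      u q + X.incl z = u q₂ + X.incl z₂ → u' q + X'.incl z = u' q₂ + X'.incl z₂ := by
    intro q q₂ z z₂ h
    have h1 : Ideal.Quotient.mk J q = Ideal.Quotient.mk J q₂ := by
      have h4 := congrArg X.proj h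
      rwa [map_add, map_add, hu, hu, proj_incl, proj_incl, add_zero, add_zero] at h4
    have hj : q - q₂ ∈ J := Ideal.Quotient.eq.mp h1
    have h2 : X.incl (z₂ - z) = u (q - q₂) := by
      rw [map_sub, map_sub]
      linear_combination (-1 : X.E) * h
    have h3 := H _ hj _ h2
    rw [map_sub, map_sub] at h3
    linear_combination (-1 : X'.E) * h3
  choose qf zf hqz using hdec
  have hkey : ∀ q z, u' (qf (u q + X.incl z)) + X'.incl (zf (u q + X.incl z)) =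
      u' q + X'.incl z := by
    intro q z
    exact hfun _ _ _ _ (hqz (u q + X.incl z)).symm
  obtain ⟨φ₀, hφ₀⟩ : ∃ φ₀ : X.E → X'.E, ∀ y, φ₀ y = u' (qf y) + X'.incl (zf y) :=
    ⟨_, fun _ => rfl⟩
  have hφ : ∀ q z, φ₀ (u q + X.incl z) = u' q + X'.incl z := fun q z => by rw [hφ₀, hkey]
  have hdec2 := exists_decomp X u hu
  refine ⟨{ toFun := φ₀, map_one' := ?_, map_mul' := ?_, map_zero' := ?_, map_add' := ?_,
            commutes' := ?_ }, hφ⟩
  · have h1 : (1 : X.E) = u 1 + X.incl 0 := by rw [map_one, map_zero, add_zero]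
    rw [h1, hφ, map_one, map_zero, add_zero]
  · intro y₁ y₂
    obtain ⟨q₁, z₁, rfl⟩ := hdec2 y₁
    obtain ⟨q₂, z₂, rfl⟩ := hdec2 y₂
    rw [mul_decomp X u hu, hφ, hφ, hφ, mul_decomp X' u' hu']
  · have h1 : (0 : X.E) = u 0 + X.incl 0 := by rw [map_zero, map_zero, add_zero]
    rw [h1, hφ, map_zero, map_zero, add_zero]
  · intro y₁ y₂
    obtain ⟨q₁, z₁, rfl⟩ := hdec2 y₁
    obtain ⟨q₂, z₂, rfl⟩ := hdec2 y₂
    have h1 : u q₁ + X.incl z₁ + (u q₂ + X.incl z₂) = u (q₁ + q₂) + X.incl (z₁ + z₂) := by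
      rw [map_add, map_add]
      abel
    rw [h1, hφ, hφ, hφ, map_add, map_add]
    abel
  · intro a
    have h1 : algebraMap Λ X.E a = u (algebraMap Λ (MvPowerSeries (Fin d) Λ) a) + X.incl 0 := by
      rw [AlgHom.commutes, map_zero, add_zero]
    rw [h1, hφ, AlgHom.commutes, map_zero, add_zero]

theorem equiv_of_agree (X X' : Exal.Ext Λ (MvPowerSeries (Fin d) Λ ⧸ J) L)
    (u : MvPowerSeries (Fin d) Λ →ₐ[Λ] X.E) (u' : MvPowerSeries (Fin d) Λ →ₐ[Λ] X'.E)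
    (hu : ∀ q, X.proj (u q) = Ideal.Quotient.mk J q)
    (hu' : ∀ q, X'.proj (u' q) = Ideal.Quotient.mk J q)
    (H : ∀ j ∈ J, ∃ z : L, X.incl z = u j ∧ X'.incl z = u' j) :
    Nonempty (X.Equiv X') := by
  have H1 : ∀ j ∈ J, ∀ z : L, X.incl z = u j → X'.incl z = u' j := by
    intro j hj z hz
    obtain ⟨z', h1, h2⟩ := H j hj
    have h3 : z' = z := X.isExtension.incl_injective (h1.trans hz.symm)
    rw [← h3]
    exact h2
  have H2 : ∀ j ∈ J, ∀ z : L, X'.incl z = u' j → X.incl z = u j := by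
    intro j hj z hz
    obtain ⟨z', h1, h2⟩ := H j hj
    have h3 : z' = z := X'.isExtension.incl_injective (h2.trans hz.symm)
    rw [← h3]
    exact h1
  obtain ⟨φ, hφ⟩ := exists_hom X X' u u' hu hu' H1
  obtain ⟨ψ, hψ⟩ := exists_hom X' X u' u hu' hu H2
  have hdec := exists_decomp X u hu
  have hdec' := exists_decomp X' u' hu'
  have h12 : φ.comp ψ = AlgHom.id Λ X'.E := by
    ext y'
    obtain ⟨q, z, rfl⟩ := hdec' y'
    rw [AlgHom.comp_apply, hψ, hφ]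
    rfl
  have h21 : ψ.comp φ = AlgHom.id Λ X.E := by
    ext y
    obtain ⟨q, z, rfl⟩ := hdec y
    rw [AlgHom.comp_apply, hφ, hψ]
    rfl
  refine ⟨{ toAlgEquiv := AlgEquiv.ofAlgHom φ ψ h12 h21, proj_apply := ?_, apply_incl := ?_ }⟩
  · intro y
    obtain ⟨q, z, rfl⟩ := hdec y
    change X'.proj (φ (u q + X.incl z)) = _
    rw [hφ, map_add, map_add, hu, hu', proj_incl, proj_incl]
  · intro z
    change φ (X.incl z) = _
    have h := hφ 0 z
    rw [map_zero, zero_add, map_zero, zero_add] at h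
    exact h

variable [IsSimpleModule (MvPowerSeries (Fin d) Λ ⧸ J) L]

theorem agree_of_equiv
    (hJ : J ≤ Ideal.span (Set.range (MvPowerSeries.X : Fin d → MvPowerSeries (Fin d) Λ)) ^ 2)
    (X X' : Exal.Ext Λ (MvPowerSeries (Fin d) Λ ⧸ J) L)
    (u : MvPowerSeries (Fin d) Λ →ₐ[Λ] X.E) (u' : MvPowerSeries (Fin d) Λ →ₐ[Λ] X'.E)
    (hu : ∀ q, X.proj (u q) = Ideal.Quotient.mk J q)
    (hu' : ∀ q, X'.proj (u' q) = Ideal.Quotient.mk J q)
    (φ : X.Equiv X') :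
    ∀ j ∈ J, ∃ z : L, X.incl z = u j ∧ X'.incl z = u' j := by
  intro j hj
  have hE' := X'.isExtension
  have hagree : ∀ q ∈ (Ideal.span (Set.range
      (MvPowerSeries.X : Fin d → MvPowerSeries (Fin d) Λ))) ^ 2,
      φ.toAlgEquiv (u q) = u' q := by
    intro q hq
    rw [pow_two] at hq
    refine Submodule.mul_induction_on hq ?_ ?_
    · intro a ha b hb
      have ha0 : X'.proj (φ.toAlgEquiv (u a) - u' a) = 0 := by
        rw [map_sub, φ.proj_apply, hu, hu', sub_self]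
      obtain ⟨za, hza⟩ := (hE'.exact _).mp ha0
      have hb0 : X'.proj (φ.toAlgEquiv (u b) - u' b) = 0 := by
        rw [map_sub, φ.proj_apply, hu, hu', sub_self]
      obtain ⟨zb, hzb⟩ := (hE'.exact _).mp hb0
      have h1 : φ.toAlgEquiv (u b) * X'.incl za = 0 := by
        rw [hE'.mul_incl, φ.proj_apply, hu, mk_smul, smul_eq_zero_of_mem_span J hb, map_zero]
      have h2 : u' a * X'.incl zb = 0 := by
        rw [hE'.mul_incl, hu', mk_smul, smul_eq_zero_of_mem_span J ha, map_zero]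
      rw [hza] at h1
      rw [hzb] at h2
      rw [map_mul, map_mul, map_mul]
      linear_combination h1 + h2
    · intro x y hx hy
      rw [map_add, map_add, map_add, hx, hy]
  have hj0 : X.proj (u j) = 0 := by rw [hu, Ideal.Quotient.eq_zero_iff_mem.mpr hj]
  obtain ⟨z, hz⟩ := (X.isExtension.exact _).mp hj0
  refine ⟨z, hz, ?_⟩
  rw [← hagree j (hJ hj), ← hz, φ.apply_incl]

theorem equiv_iff
    (hJ : J ≤ Ideal.span (Set.range (MvPowerSeries.X : Fin d → MvPowerSeries (Fin d) Λ)) ^ 2)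
    (X X' : Exal.Ext Λ (MvPowerSeries (Fin d) Λ ⧸ J) L)
    (u : MvPowerSeries (Fin d) Λ →ₐ[Λ] X.E) (u' : MvPowerSeries (Fin d) Λ →ₐ[Λ] X'.E)
    (hu : ∀ q, X.proj (u q) = Ideal.Quotient.mk J q)
    (hu' : ∀ q, X'.proj (u' q) = Ideal.Quotient.mk J q) :
    Nonempty (X.Equiv X') ↔ ∀ j ∈ J, ∃ z : L, X.incl z = u j ∧ X'.incl z = u' j :=
  ⟨fun ⟨φ⟩ => agree_of_equiv hJ X X' u u' hu hu' φ, equiv_of_agree X X' u u' hu hu'⟩

end

end Groth.Agent.Helper6.ExalPS
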